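import Groth.Agent.Hensel1.Universal

/-!
# Flatness of `Hens R Ω` over an arbitrary ring
-/

set_option autoImplicit false

universe u

open TensorProduct

namespace Misc3Stein

/-- Flatness of the henselian ring at a point of an arbitrary ring. -/
theorem flat_hens (R : Type u) [CommRing R] (Ω : Type u) [Field Ω] [Algebra R Ω] :
    Module.Flat R (Groth.Hensel1.Hens R Ω) := by
  classical
  refine Module.Flat.of_forall_isTrivialRelation fun {l a x} h => ?_
  obtain ⟨i, y, hy⟩ := Groth.Hensel1.Hens.exists_of_fintype x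
  have h0 : Groth.Hensel1.Hens.of i (∑ k, a k • y k) = Groth.Hensel1.Hens.of i 0 := by simpa [hy] using h
  obtain ⟨j, hij, hj⟩ := Groth.Hensel1.Hens.exists_tr_eq h0
  rw [map_sum, map_zero] at hj
  simp only [map_smul] at hj
  have : Module.Flat R j.P.Ring := inferInstance
  have : Module.Flat j.P.Ring j.Obj := IsLocalization.flat _ j.q.primeCompl
  have : Module.Flat R j.Obj := Module.Flat.trans R j.P.Ring j.Obj
  obtain ⟨k, b, z, hz, hb⟩ := Module.Flat.isTrivialRelation_of_sum_smul_eq_zero hj
  refine ⟨k, b, fun m => Groth.Hensel1.Hens.of j (z m), fun m => ?_, hb⟩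
  rw [← hy m, ← Groth.Hensel1.Hens.of_tr hij, show Groth.Hensel1.HensIdx.tr i j hij (y m) = _ from hz m, map_sum]
  simp only [map_smul]

end Misc3Stein
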