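import Mathlib
import Groth.Agent.Sga3.HensPoint
import Groth.Agent.VarietyBC.Components
import Groth.Agent.HensPair.ProperClopenCor
import Groth.Agent.CohFin.ProjFinite
import Groth.Agent.AlgGrp1.PushIso
import Groth.Agent.Misc3Stein.HensFlat

/-!
# Zariski's connectedness theorem, without Noetherian hypotheses

A proper morphism `f` with `O = f_* O` is geometrically connected.
-/

universe u

open CategoryTheory CategoryTheory.Limits AlgebraicGeometry

set_option backward.isDefEq.respectTransparency false

namespace Misc3Stein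

/-- The trivial clopens: a scheme with a local ring of global functions is connected. -/
theorem connectedSpace_of_isLocalRing {P : Scheme.{u}} [IsLocalRing Γ(P, ⊤)] : ConnectedSpace P := by
  have hne : Nonempty P := by
    by_contra h
    rw [not_nonempty_iff] at h
    have h0 : (⊤ : P.Opens) = ⊥ := TopologicalSpace.Opens.ext (Set.eq_empty_of_isEmpty _)
    haveI : Subsingleton Γ(P, ⊤) := CommRingCat.subsingleton_of_isTerminal (P.sheaf.isTerminalOfEqEmpty h0)
    exact one_ne_zero (Subsingleton.elim (1 : Γ(P, ⊤)) 0)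
  haveI : PreconnectedSpace P := by
    refine preconnectedSpace_iff_clopen.2 fun W hW => ?_
    let U : P.Opens := ⟨W, hW.2⟩
    let V : P.Opens := ⟨Wᶜ, hW.1.isOpen_compl⟩
    have hUV : U ⊔ V = ⊤ := TopologicalSpace.Opens.ext (Set.union_compl_self W)
    have hdisj : U ⊓ V = ⊥ := TopologicalSpace.Opens.ext (Set.inter_compl_self W)
    obtain ⟨e, he⟩ := P.sheaf.existsUnique_gluing' (fun b : Bool => cond b U V) ⊤ (fun b => homOfLE le_top)
      (by intro x _; rcases (hUV.ge (Set.mem_univ x) : x ∈ W ∪ Wᶜ) with h | h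
          · exact TopologicalSpace.Opens.mem_iSup.2 ⟨true, h⟩
          · exact TopologicalSpace.Opens.mem_iSup.2 ⟨false, h⟩)
      (fun b => match b with | true => (1 : Γ(P, U)) | false => (0 : Γ(P, V)))
      (by
        rintro (_ | _) (_ | _)
        · rfl
        · haveI : Subsingleton Γ(P, V ⊓ U) :=
            CommRingCat.subsingleton_of_isTerminal (P.sheaf.isTerminalOfEqEmpty (by rw [inf_comm, hdisj]))
          exact Subsingleton.elim (α := Γ(P, V ⊓ U)) _ _
        · haveI : Subsingleton Γ(P, U ⊓ V) :=
            CommRingCat.subsingleton_of_isTerminal (P.sheaf.isTerminalOfEqEmpty hdisj)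
          exact Subsingleton.elim (α := Γ(P, U ⊓ V)) _ _
        · rfl)
    have heU : P.presheaf.map (homOfLE (le_top : U ≤ ⊤)).op e = 1 := he.1 true
    have heV : P.presheaf.map (homOfLE (le_top : V ≤ ⊤)).op e = 0 := he.1 false
    rcases IsLocalRing.isUnit_or_isUnit_one_sub_self (R := Γ(P, ⊤)) e with h | h
    · right
      by_contra hne'
      obtain ⟨x, hx⟩ := (Set.ne_univ_iff_exists_notMem _).1 hne'
      have h1 := h.map (P.presheaf.map (homOfLE (le_top : V ≤ ⊤)).op).hom
      rw [heV] at h1
      haveI : Nonempty V := ⟨⟨x, hx⟩⟩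
      exact not_isUnit_zero h1
    · left
      by_contra hne'
      obtain ⟨x, hx⟩ := Set.nonempty_iff_ne_empty.2 hne'
      have h1 := h.map (P.presheaf.map (homOfLE (le_top : U ≤ ⊤)).op).hom
      rw [map_sub, map_one, heU, sub_self] at h1
      haveI : Nonempty U := ⟨⟨x, hx⟩⟩
      exact not_isUnit_zero h1
  exact ⟨hne⟩

/-- Proper over a henselian local ring with local ring of functions: the closed fibre is connected. -/
theorem connectedSpace_closedFibre {A : Type u} [CommRing A] [HenselianLocalRing A] {Ω : Type u} [Field Ω]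
    (π : A →+* Ω) (hπ : Function.Surjective π) {P : Scheme.{u}} (f : P ⟶ Spec (CommRingCat.of A)) [IsProper f]
    [IsLocalRing Γ(P, ⊤)] [Surjective f] :
    ConnectedSpace ↥(pullback f (Spec.map (CommRingCat.ofHom π))) := by
  haveI := connectedSpace_of_isLocalRing (P := P)
  let s := Spec.map (CommRingCat.ofHom π)
  haveI : IsClosedImmersion s := IsClosedImmersion.spec_of_surjective _ hπ
  have hker : RingHom.ker π = IsLocalRing.maximalIdeal A :=
    haveI := RingHom.ker_isMaximal_of_surjective π hπ
    IsLocalRing.eq_maximalIdeal inferInstance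
  have hr : Set.range (pullback.fst f s).base = Groth.HensPair.overV f (IsLocalRing.maximalIdeal A) := by
    rw [Scheme.Pullback.range_fst, ← hker]
    exact congrArg (f.base ⁻¹' ·) (range_comap_of_surjective _ π hπ)
  have : CompactSpace P := QuasiCompact.compactSpace_of_compactSpace f
  have : QuasiSeparatedSpace P := quasiSeparatedSpace_of_quasiSeparated f
  have : CompactSpace ↥(pullback f s) := QuasiCompact.compactSpace_of_compactSpace (pullback.snd f s)
  have : QuasiSeparatedSpace ↥(pullback f s) := quasiSeparatedSpace_of_quasiSeparated (pullback.snd f s)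
  have hb := Groth.HensPair.bijective_connectedComponentsMap (pullback.fst f s).continuous
    (Groth.HensPair.clopenBij_of_range Groth.CohFin.projFinite (IsLocalRing.maximalIdeal A) f
      (pullback.fst f s).isEmbedding hr)
  haveI : Nonempty ↥(pullback f s) := by
    obtain ⟨y, -⟩ := (pullback.snd f s).surjective (⊥ : PrimeSpectrum Ω)
    exact ⟨y⟩
  haveI : PreconnectedSpace ↥(pullback f s) := by
    refine ⟨isPreconnected_of_forall_pair fun x _ y _ => ?_⟩
    have hxy : ((x : _root_.ConnectedComponents ↥(pullback f s))) = y := hb.1 (Subsingleton.elim _ _)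
    rw [ConnectedComponents.coe_eq_coe'] at hxy
    exact ⟨connectedComponent y, Set.subset_univ _, hxy, mem_connectedComponent, isPreconnected_connectedComponent⟩
  exact ⟨‹_›⟩

/-- **Zariski's connectedness theorem.** -/
theorem geometricallyConnected_of_isIso_app {X Y : Scheme.{u}} (f : X ⟶ Y) [IsProper f]
    (hf : ∀ U : Y.Opens, IsAffineOpen U → IsIso (f.app U)) : GeometricallyConnected f := by
  rw [GeometricallyConnected.eq_geometrically]
  intro K _ g Z fst snd hZ
  obtain ⟨_, ⟨U, hU, rfl⟩, hgU, -⟩ := Y.isBasis_affineOpens.exists_subset_of_mem_open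
    (Set.mem_univ (g.base (IsLocalRing.closedPoint K))) isOpen_univ
  have hgr : Set.range g.base ⊆ Set.range hU.fromSpec.base := by
    rintro _ ⟨x, rfl⟩
    rw [hU.range_fromSpec, Subsingleton.elim x (IsLocalRing.closedPoint K)]
    exact hgU
  obtain ⟨φ, hφ⟩ := Spec.map_surjective (IsOpenImmersion.lift hU.fromSpec g hgr)
  have hgφ : Spec.map φ ≫ hU.fromSpec = g := by rw [hφ, IsOpenImmersion.lift_fac]
  let R := Γ(Y, U)
  let p : Ideal R := RingHom.ker φ.hom
  haveI : p.IsPrime := RingHom.ker_isPrime φ.hom
  let ψ : p.ResidueField →+* K := Ideal.ResidueField.lift p φ.hom le_rfl (fun r hr => isUnit_iff_ne_zero.2 hr)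
  have hψ : CommRingCat.ofHom (algebraMap R p.ResidueField) ≫ CommRingCat.ofHom ψ = φ := by
    ext r
    exact Ideal.ResidueField.lift_algebraMap p φ.hom le_rfl (fun r hr => isUnit_iff_ne_zero.2 hr) r
  let pt : Spec (CommRingCat.of p.ResidueField) ⟶ Y :=
    Spec.map (CommRingCat.ofHom (algebraMap R p.ResidueField)) ≫ hU.fromSpec
  have hg : Spec.map (CommRingCat.ofHom ψ) ≫ pt = g := by
    rw [← Category.assoc, ← Spec.map_comp, hψ, hgφ]
  let Xk : Scheme.{u} := pullback f pt
  letI : Xk.Over (Spec (CommRingCat.of p.ResidueField)) := ⟨pullback.snd f pt⟩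
  suffices hk : GeometricallyConnected (Xk ↘ Spec (CommRingCat.of p.ResidueField)) by
    refine hk.geometrically_connectedSpace (Spec.map (CommRingCat.ofHom ψ))
      (pullback.lift fst (snd ≫ Spec.map (CommRingCat.ofHom ψ)) (by rw [Category.assoc, hg, hZ.w])) snd ?_
    show IsPullback _ snd (pullback.snd f pt) (Spec.map (CommRingCat.ofHom ψ))
    refine IsPullback.of_right ?_ (pullback.lift_snd _ _ _) (IsPullback.of_hasPullback f pt)
    rw [pullback.lift_fst, hg]
    exact hZ
  let Ω := SeparableClosure p.ResidueField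
  letI : Algebra R Ω := ((algebraMap p.ResidueField Ω).comp (algebraMap R p.ResidueField)).toAlgebra
  haveI : IsScalarTower R p.ResidueField Ω := IsScalarTower.of_algebraMap_eq' rfl
  let A := Groth.Hensel1.Hens R Ω
  haveI : Module.Flat R A := flat_hens R Ω
  let π : A →+* Ω := (Groth.Hensel1.Hens.pt (R := R) (Ω := Ω)).toRingHom
  have hπ : Function.Surjective π := Groth.Sga3.HensPoint.pt_surjective p
  haveI : Flat (Spec.map (CommRingCat.ofHom (algebraMap R A))) :=
    (HasRingHomProperty.Spec_iff (P := @Flat)).2 ((RingHom.flat_algebraMap_iff).2 ‹_›)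
  let q : Spec (CommRingCat.of A) ⟶ Y := Spec.map (CommRingCat.ofHom (algebraMap R A)) ≫ hU.fromSpec
  haveI : Flat q := inferInstance
  let iY := pullback.snd f q
  have hPush : Groth.AlgGrp1.PushIso iY :=
    Groth.AlgGrp1.PushIso.baseChange (IsPullback.of_hasPullback f q) hf
  have htop : IsIso iY.appTop := by
    obtain ⟨B, -, hmB, -, hiso⟩ := hPush ⊤ (IsLocalRing.closedPoint A) trivial
    have : B = ⊤ := (IsLocalRing.closedPoint_mem_iff B).1 hmB
    subst this
    exact hiso
  haveI : IsLocalRing Γ(pullback f q, ⊤) :=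
    RingEquiv.isLocalRing ((Scheme.ΓSpecIso (CommRingCat.of A)).symm ≪≫ asIso iY.appTop).commRingCatIsoToRingEquiv
  haveI : Surjective iY := hPush.surjective
  haveI := connectedSpace_closedFibre π hπ iY
  have hpt : Spec.map (CommRingCat.ofHom π) ≫ q =
      Spec.map (CommRingCat.ofHom (algebraMap p.ResidueField Ω)) ≫ pt := by
    show Spec.map _ ≫ Spec.map _ ≫ hU.fromSpec = Spec.map _ ≫ Spec.map _ ≫ hU.fromSpec
    rw [← Category.assoc, ← Category.assoc, ← Spec.map_comp, ← Spec.map_comp, ← CommRingCat.ofHom_comp,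
      ← CommRingCat.ofHom_comp]
    congr 3
    exact RingHom.ext fun r => (Groth.Hensel1.Hens.pt (R := R) (Ω := Ω)).commutes r
  have e : pullback iY (Spec.map (CommRingCat.ofHom π)) ≅ Curv2.bc p.ResidueField Xk Ω :=
    pullbackLeftPullbackSndIso f q _ ≪≫ pullback.congrHom rfl hpt ≪≫ (pullbackLeftPullbackSndIso f pt _).symm
  haveI : ConnectedSpace ↥(Curv2.bc p.ResidueField Xk Ω) :=
    e.hom.homeomorph.surjective.connectedSpace e.hom.homeomorph.continuous
  exact Groth.VarietyBC.geometricallyConnected_of_connectedSpace_bc Ω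

end Misc3Stein
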