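import Mathlib
import Groth.Agent.Misc3Stein.Connected
import Groth.Agent.Variety2.Frobenius
import Groth.Agent.S1340
import Groth.Agent.S9633

/-!
# Stein factorization through the relative normalization
-/

universe u

open CategoryTheory CategoryTheory.Limits AlgebraicGeometry

set_option backward.isDefEq.respectTransparency false

namespace Misc3Stein

/-- The first map of the Stein factorization of a proper morphism is geometrically connected. -/
theorem geometricallyConnected_toNormalization {X S : Scheme.{u}} (f : X ⟶ S) [IsProper f] :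
    GeometricallyConnected f.toNormalization := by
  haveI : IsProper (f.toNormalization ≫ f.fromNormalization) := by
    rw [f.toNormalization_fromNormalization]; infer_instance
  haveI : IsProper f.toNormalization := IsProper.of_comp _ f.fromNormalization
  exact geometricallyConnected_of_isIso_app _ fun U _ => Groth.Agent.S1340.result f U

/-- A connected scheme integral over a field is a single point. -/
theorem subsingleton_of_integral {K : Type u} [Field K] {P : Scheme.{u}} (h : P ⟶ Spec (CommRingCat.of K))
    [IsIntegralHom h] [PreconnectedSpace P] : Subsingleton P := by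
  haveI : IsAffine P := isAffine_of_isAffineHom h
  let φ : K →+* Γ(P, ⊤) := h.appTop.hom.comp (Scheme.ΓSpecIso (CommRingCat.of K)).inv.hom
  have hφ : φ.IsIntegral := by
    refine RingHom.IsIntegral.trans _ _ (RingHom.isIntegral_of_surjective _ ?_) ?_
    · exact (Scheme.ΓSpecIso (CommRingCat.of K)).commRingCatIsoToRingEquiv.symm.surjective
    · exact (HasAffineProperty.iff_of_isAffine (P := @IsIntegralHom)).1 ‹IsIntegralHom h› |>.2
  algebraize [φ]
  have hmax : ∀ p : Ideal Γ(P, ⊤), p.IsPrime → p.IsMaximal := fun p hp =>
    haveI := hp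
    Ideal.isMaximal_of_isIntegral_of_isMaximal_comap (R := K) p (by
      rw [(Ideal.eq_bot_or_top (p.comap (algebraMap K Γ(P, ⊤)))).resolve_right (Ideal.IsPrime.comap (algebraMap K Γ(P, ⊤))).ne_top]
      exact Ideal.bot_isMaximal)
  haveI : TotallyDisconnectedSpace (PrimeSpectrum Γ(P, ⊤)) :=
    ((Groth.Agent.S9633.result (R := Γ(P, ⊤))).out 5 2 rfl rfl).1 hmax
  haveI : PreconnectedSpace (PrimeSpectrum Γ(P, ⊤)) :=
    P.isoSpec.hom.homeomorph.surjective.denseRange.preconnectedSpace P.isoSpec.hom.homeomorph.continuous
  haveI : Subsingleton (PrimeSpectrum Γ(P, ⊤)) :=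
    ⟨fun a b => (isPreconnected_univ (α := PrimeSpectrum Γ(P, ⊤))).subsingleton (Set.mem_univ a) (Set.mem_univ b)⟩
  haveI : Subsingleton ↥(Spec Γ(P, ⊤)) := ‹Subsingleton (PrimeSpectrum Γ(P, ⊤))›
  exact P.isoSpec.hom.homeomorph.injective.subsingleton

/-- Universal injectivity, by fibres over field-valued points. -/
theorem universallyInjective_of_subsingleton {X Y : Scheme.{u}} (g : X ⟶ Y)
    (h : ∀ (K : Type u) [Field K] (t : Spec (CommRingCat.of K) ⟶ Y), Subsingleton ↥(pullback g t)) :
    UniversallyInjective g := by
  refine ((tfae_universallyInjective g).out 0 1 rfl rfl).2 fun K _ g₁ g₂ he => ?_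
  haveI := h K (g₁ ≫ g)
  let l₁ : Spec (CommRingCat.of K) ⟶ pullback g (g₁ ≫ g) := pullback.lift g₁ (𝟙 _) (by rw [Category.id_comp])
  let l₂ : Spec (CommRingCat.of K) ⟶ pullback g (g₁ ≫ g) :=
    pullback.lift g₂ (𝟙 _) (by rw [Category.id_comp]; exact he.symm)
  suffices hl : l₁ = l₂ by
    rw [← pullback.lift_fst g₁ (𝟙 _) (show g₁ ≫ g = 𝟙 _ ≫ g₁ ≫ g by rw [Category.id_comp]),
      ← pullback.lift_fst g₂ (𝟙 _) (show g₂ ≫ g = 𝟙 _ ≫ g₁ ≫ g by rw [Category.id_comp]; exact he.symm)]
    exact congrArg (· ≫ pullback.fst g (g₁ ≫ g)) hl
  apply (Scheme.SpecToEquivOfField K (pullback g (g₁ ≫ g))).injective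
  obtain ⟨⟨z, a⟩, ha⟩ := (Scheme.SpecToEquivOfField K (pullback g (g₁ ≫ g))).symm.surjective l₁
  obtain ⟨⟨z', b⟩, hb⟩ := (Scheme.SpecToEquivOfField K (pullback g (g₁ ≫ g))).symm.surjective l₂
  obtain rfl : z = z' := Subsingleton.elim _ _
  suffices hab : a = b by rw [← ha, ← hb, hab]
  obtain ⟨ι, hι⟩ := Spec.map_surjective ((pullback g (g₁ ≫ g)).fromSpecResidueField z ≫ pullback.snd g (g₁ ≫ g))
  have h1 : ∀ c : (pullback g (g₁ ≫ g)).residueField z ⟶ CommRingCat.of K,
      Spec.map c ≫ (pullback g (g₁ ≫ g)).fromSpecResidueField z ≫ pullback.snd g (g₁ ≫ g) = 𝟙 _ → ι ≫ c = 𝟙 _ := by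
    intro c hc
    rw [← hι, ← Spec.map_comp, ← Spec.map_id] at hc
    exact Spec.map_injective hc
  have h1a := h1 a (by
    rw [← Category.assoc, show Spec.map a ≫ (pullback g (g₁ ≫ g)).fromSpecResidueField z = l₁ from ha]
    exact pullback.lift_snd _ _ _)
  have h1b := h1 b (by
    rw [← Category.assoc, show Spec.map b ≫ (pullback g (g₁ ≫ g)).fromSpecResidueField z = l₂ from hb]
    exact pullback.lift_snd _ _ _)
  refine CommRingCat.hom_ext (RingHom.ext fun w => ?_)
  have hinj : Function.Injective a.hom := RingHom.injective _
  have hw : w = ι.hom (a.hom w) := hinj (by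
    have := congrArg (fun f => f.hom (a.hom w)) h1a
    simpa using this.symm)
  rw [hw]
  have e1 := congrArg (fun f => f.hom (a.hom w)) h1a
  have e2 := congrArg (fun f => f.hom (a.hom w)) h1b
  simp at e1 e2
  exact e1.trans e2.symm

/-- If `a ≫ g` is geometrically connected, `a` surjective and `g` integral then `g` is a universal
homeomorphism. -/
theorem isUnivHomeo_of_factor {X Y Z : Scheme.{u}} (a : X ⟶ Y) (g : Y ⟶ Z) [Surjective a] [IsIntegralHom g]
    [GeometricallyConnected (a ≫ g)] : FlatMor.IsUnivHomeo g := by
  haveI : Surjective g := by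
    refine ⟨fun z => ?_⟩
    obtain ⟨x, hx⟩ := (a ≫ g).surjective z
    exact ⟨a x, hx⟩
  haveI : UniversallyInjective g := by
    refine universallyInjective_of_subsingleton g fun K _ t => ?_
    haveI : GeometricallyConnected (pullback.snd (a ≫ g) t) := inferInstance
    haveI : ConnectedSpace ↥(pullback (a ≫ g) t) :=
      GeometricallyConnected.geometrically_connectedSpace (f := a ≫ g) t _ _ (IsPullback.of_hasPullback _ _)
    let e := pullbackRightPullbackFstIso g t a
    haveI : ConnectedSpace ↥(pullback a (pullback.fst g t)) :=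
      e.inv.homeomorph.surjective.connectedSpace e.inv.homeomorph.continuous
    haveI : ConnectedSpace ↥(pullback g t) :=
      (pullback.snd a (pullback.fst g t)).surjective.connectedSpace (pullback.snd a (pullback.fst g t)).continuous
    exact subsingleton_of_integral (pullback.snd g t)
  exact Groth.Variety2.isUnivHomeo_of g

/-- A geometrically connected morphism followed by a universally injective surjection is geometrically
connected. -/
theorem geometricallyConnected_comp {X Y Z : Scheme.{u}} (a : X ⟶ Y) (g : Y ⟶ Z) [GeometricallyConnected a]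
    [Surjective g] [UniversallyInjective g] : GeometricallyConnected (a ≫ g) := by
  rw [GeometricallyConnected.eq_geometrically, geometrically_iff_of_isClosedUnderIsomorphisms]
  intro K _ t
  haveI : UniversallyInjective (pullback.snd g t) := MorphismProperty.pullback_snd _ _ ‹_›
  haveI : Surjective (pullback.snd g t) := MorphismProperty.pullback_snd _ _ ‹_›
  haveI : Subsingleton ↥(pullback g t) := (pullback.snd g t).injective.subsingleton
  obtain ⟨w, -⟩ := (pullback.snd g t).surjective (⊥ : PrimeSpectrum K)
  let b := pullback.snd a (pullback.fst g t)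
  haveI : GeometricallyConnected b := inferInstance
  have hb := b.isConnected_preimage_singleton w
  rw [show b ⁻¹' {w} = Set.univ from Set.eq_univ_iff_forall.2 fun x => Subsingleton.elim _ _] at hb
  haveI : ConnectedSpace ↥(pullback a (pullback.fst g t)) := connectedSpace_iff_univ.2 hb
  exact (pullbackRightPullbackFstIso g t a).hom.homeomorph.surjective.connectedSpace
    (pullbackRightPullbackFstIso g t a).hom.homeomorph.continuous

/-- The comparison map of Stein factorizations under base change is a universal homeomorphism. -/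
theorem isUnivHomeo_normalizationPullback {X S T : Scheme.{u}} (f : X ⟶ S) [IsProper f] (g : T ⟶ S) :
    FlatMor.IsUnivHomeo (f.normalizationPullback g) := by
  haveI := geometricallyConnected_toNormalization f
  haveI := geometricallyConnected_toNormalization (pullback.snd f g)
  haveI : GeometricallyConnected ((pullback.snd f g).toNormalization ≫ f.normalizationPullback g) := by
    refine MorphismProperty.of_isPullback (P := @GeometricallyConnected)
      (IsPullback.of_bot (h₁₁ := pullback.fst f g) ?_ ?_ (IsPullback.of_hasPullback f.fromNormalization g)) ‹GeometricallyConnected f.toNormalization›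
    · simp only [Category.assoc, Scheme.Hom.normalizationPullback_snd,
        Scheme.Hom.toNormalization_fromNormalization]
      exact IsPullback.of_hasPullback f g
    · simp
  exact isUnivHomeo_of_factor (pullback.snd f g).toNormalization (f.normalizationPullback g)

end Misc3Stein
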