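import Mathlib
import Groth.Prelude.Def_Pi1
import Groth.Agent.Variety2.Normal
import Groth.Agent.Misc3Stein.Connected

/-!
# Proper morphisms to a normal base whose generic fibre has only constant functions
-/

universe u

open CategoryTheory CategoryTheory.Limits AlgebraicGeometry TopologicalSpace

set_option backward.isDefEq.respectTransparency false

namespace Misc3Stein

theorem fromSpecResidueField_appLE {S : Scheme.{u}} (U : S.Opens) (x : S) (hx : x ∈ U)
    (e : ⊤ ≤ S.fromSpecResidueField x ⁻¹ᵁ U) :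
    (S.fromSpecResidueField x).appLE U ⊤ e = S.evaluation U x hx ≫ (Scheme.ΓSpecIso (S.residueField x)).inv := by
  rw [← Scheme.germ_residue, Category.assoc, Scheme.ΓSpecIso_inv_naturality]
  have e' : (⊤ : (Spec (S.presheaf.stalk x)).Opens) ≤ S.fromSpecStalk x ⁻¹ᵁ U := by
    intro y _
    have : S.fromSpecStalk x y ⤳ x := by
      have h := (IsLocalRing.specializes_closedPoint (R := S.presheaf.stalk x) y).map (S.fromSpecStalk x).continuous
      rwa [Scheme.fromSpecStalk_closedPoint] at h
    exact this.mem_open U.2 hx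
  have h1 : (S.fromSpecStalk x).appLE U ⊤ e' = S.presheaf.germ U x hx ≫ (Scheme.ΓSpecIso (S.presheaf.stalk x)).inv := by
    rw [Scheme.Hom.appLE, Scheme.fromSpecStalk_app hx]
    simp [← Functor.map_comp, Subsingleton.elim _ (𝟙 (Opposite.op (⊤ : (Spec (S.presheaf.stalk x)).Opens)))]
  have h2 := Scheme.Hom.appLE_comp_appLE (Spec.map (S.residue x)) (S.fromSpecStalk x) U ⊤ ⊤ e' le_top
  rw [h1, Category.assoc] at h2
  exact h2.symm

theorem app_isIntegral {X Y : Scheme.{u}} (f : X ⟶ Y) [IsProper f] {V : Y.Opens} (hV : IsAffineOpen V) :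
    (f.app V).hom.IsIntegral := by
  have : IsAffine V.toScheme := hV
  have h := isIntegral_appTop_of_universallyClosed (f ∣_ V)
  have e : (f ∣_ V).appTop = (Y.presheaf.map (eqToHom V.ι_image_top.symm).op) ≫
      f.app V ≫ X.presheaf.map (eqToHom (f ⁻¹ᵁ V).ι_image_top).op := by
    rw [morphismRestrict_appTop, ← Category.assoc, f.naturality, Category.assoc, ← Functor.map_comp]
    rfl
  rw [e] at h
  exact (RingHom.isIntegral_respectsIso.cancel_right_isIso (f.app V) _).1
    ((RingHom.isIntegral_respectsIso.cancel_left_isIso _ _).1 h)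

variable {X S : Scheme.{u}} (f : X ⟶ S) [IsProper f] [IsIntegral S] [IsReduced X]

theorem isIso_app_of_normal (hS : Pi1.IsNormalScheme S)
    (hgen : ∀ Z ∈ irreducibleComponents ↑X, ∀ x : X, IsGenericPoint x Z → f x = genericPoint ↑S)
    (h0 : Function.Bijective ((f.fiberToSpecResidueField (genericPoint ↑S)).appTop))
    {U : S.Opens} (hU : IsAffineOpen U) : IsIso (f.app U) := by
  rcases isEmpty_or_nonempty U with hne | hne
  · have hUb : U = ⊥ := Opens.ext (Set.eq_empty_iff_forall_notMem.2 fun x hx => hne.elim ⟨x, hx⟩)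
    have hV : f ⁻¹ᵁ U = ⊥ := by rw [hUb]; rfl
    haveI : Subsingleton Γ(S, U) := CommRingCat.subsingleton_of_isTerminal (S.sheaf.isTerminalOfEqEmpty hUb)
    haveI : Subsingleton Γ(X, f ⁻¹ᵁ U) := CommRingCat.subsingleton_of_isTerminal (X.sheaf.isTerminalOfEqEmpty hV)
    exact (ConcreteCategory.isIso_iff_bijective _).2 ⟨fun _ _ _ => Subsingleton.elim _ _, fun b => ⟨0, Subsingleton.elim _ _⟩⟩
  let η := genericPoint S
  have hηU : η ∈ U := ((genericPoint_spec S).mem_open_set_iff U.isOpen).mpr (by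
    obtain ⟨x, hx⟩ := hne; exact ⟨x, trivial, hx⟩)
  let G := Γ(f.fiber η, ⊤)
  have e₁ : ⊤ ≤ f.fiberι η ⁻¹ᵁ (f ⁻¹ᵁ U) := fun y _ => by
    show f (f.fiberι η y) ∈ U
    have := (f.range_fiberι η).le ⟨y, rfl⟩
    rw [show f (f.fiberι η y) = η from this]
    exact hηU
  have e₂ : ⊤ ≤ S.fromSpecResidueField η ⁻¹ᵁ U := fun y _ => by
    show S.fromSpecResidueField η y ∈ U
    rw [Scheme.fromSpecResidueField_apply]; exact hηU
  let ρ : Γ(X, f ⁻¹ᵁ U) ⟶ G := (f.fiberι η).appLE (f ⁻¹ᵁ U) ⊤ e₁
  let κ : S.functionField →+* G := (f.fiberToSpecResidueField η).appTop.hom.comp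
    ((Scheme.ΓSpecIso (S.residueField η)).inv.hom.comp (S.residue η).hom)
  have hκ : Function.Bijective κ := by
    refine h0.comp ((ConcreteCategory.bijective_of_isIso (Scheme.ΓSpecIso (S.residueField η)).inv).comp ⟨?_, ?_⟩)
    · exact RingHom.injective (S.residue η).hom
    · exact IsLocalRing.residue_surjective
  have hsq : ∀ a, ρ (f.app U a) = κ (S.germToFunctionField U a) := fun a => by
    have h1 : f.app U ≫ ρ = (f.fiberι η ≫ f).appLE U ⊤ e₁ := by
      rw [Scheme.Hom.app_eq_appLE]; exact Scheme.Hom.appLE_comp_appLE _ _ _ _ _ _ _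
    have h2 : (f.fiberι η ≫ f).appLE U ⊤ e₁ = (S.fromSpecResidueField η).appLE U ⊤ e₂ ≫
        (f.fiberToSpecResidueField η).appTop := by
      have key : ∀ {p q : f.fiber η ⟶ S}, p = q → ∀ e e', p.appLE U ⊤ e = q.appLE U ⊤ e' := by
        rintro p q rfl e e'; rfl
      exact (key (f.fiber_fac η) _ _).trans
        ((Scheme.Hom.appLE_comp_appLE (f.fiberToSpecResidueField η) (S.fromSpecResidueField η) U ⊤ ⊤ e₂ le_top).symm.trans
          (congrArg (_ ≫ ·) (Scheme.Hom.app_eq_appLE (f := f.fiberToSpecResidueField η) (U := ⊤)).symm))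
    rw [fromSpecResidueField_appLE U η hηU e₂, ← Scheme.germ_residue] at h2
    exact RingHom.congr_fun (congrArg CommRingCat.Hom.hom (h1.trans h2)) a
  have hρ : Function.Injective ρ := by
    rw [injective_iff_map_eq_zero]
    intro b hb
    apply basicOpen_eq_bot_iff b |>.1
    by_contra hb0
    obtain ⟨w, hw⟩ : ∃ w, w ∈ X.basicOpen b := by
      by_contra h; push Not at h
      exact hb0 (Opens.ext (Set.eq_empty_iff_forall_notMem.2 h))
    have hirr : IsIrreducible (irreducibleComponent w) := isIrreducible_irreducibleComponent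
    let x := hirr.genericPoint
    have hx : IsGenericPoint x (irreducibleComponent w) := by
      have := hirr.isGenericPoint_genericPoint_closure
      rwa [isClosed_irreducibleComponent.closure_eq] at this
    have hxb : x ∈ X.basicOpen b := (hx.mem_open_set_iff (X.basicOpen b).isOpen).2 ⟨w, mem_irreducibleComponent, hw⟩
    obtain ⟨y, hy⟩ : x ∈ Set.range (f.fiberι η) := by
      rw [f.range_fiberι η]
      exact hgen _ (irreducibleComponent_mem_irreducibleComponents w) x hx
    have h2 : (f.fiber η).basicOpen (ρ b) = ⊤ ⊓ (f.fiberι η) ⁻¹ᵁ X.basicOpen b := by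
      rw [Scheme.preimage_basicOpen]; exact Scheme.basicOpen_res _ _ _
    rw [show ρ b = 0 from hb, Scheme.basicOpen_zero] at h2
    have : y ∈ (⊤ : (f.fiber η).Opens) ⊓ (f.fiberι η) ⁻¹ᵁ X.basicOpen b := ⟨trivial, by
      show f.fiberι η y ∈ X.basicOpen b; rw [hy]; exact hxb⟩
    rw [← h2] at this
    exact this
  haveI : IsIntegrallyClosed Γ(S, U) := Groth.Variety2.isIntegrallyClosed_Γ (fun y => (hS y).2) U
  haveI : IsFractionRing Γ(S, U) S.functionField := functionField_isFractionRing_of_isAffineOpen S U hU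
  have hint := app_isIntegral f hU
  refine (ConcreteCategory.isIso_iff_bijective _).2 ⟨fun a a' h => ?_, fun b => ?_⟩
  · apply IsFractionRing.injective Γ(S, U) S.functionField
    exact hκ.1 ((hsq a).symm.trans ((congrArg ρ h).trans (hsq a')))
  · obtain ⟨k, hk⟩ := hκ.2 (ρ b)
    have hki : IsIntegral Γ(S, U) k := by
      obtain ⟨P, hP, hPb⟩ := hint b
      refine ⟨P, hP, hκ.1 ?_⟩
      rw [map_zero, Polynomial.hom_eval₂, hk, ← map_zero ρ.hom, ← hPb, Polynomial.hom_eval₂]
      congr 1
      exact RingHom.ext fun a => (hsq a).symm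
    obtain ⟨a, rfl⟩ := IsIntegrallyClosed.isIntegral_iff.1 hki
    exact ⟨a, hρ ((hsq a).trans hk)⟩

/-- Proper over a normal base, only constants on the generic fibre. -/
theorem isIso_app_of_normal' (hS : Pi1.IsNormalScheme S)
    (hgen : ∀ Z ∈ irreducibleComponents ↑X, ∀ x : X, IsGenericPoint x Z → f x = genericPoint ↑S)
    (h0 : Function.Bijective ((f.fiberToSpecResidueField (genericPoint ↑S)).appTop))
    (U : S.Opens) : IsIso (f.app U) := by
  let φ : S.sheaf ⟶ (TopCat.Sheaf.pushforward CommRingCat f.base).obj X.sheaf := ⟨f.c⟩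
  have hb : Opens.IsBasis (Set.range fun i : S.affineOpens => i.1) := by
    simpa using S.isBasis_affineOpens
  have : IsIso φ := TopCat.Sheaf.isIso_iff_isIso_basis hb fun B => isIso_app_of_normal f hS hgen h0 B.2
  have hc : IsIso f.c :=
    inferInstanceAs (IsIso ((TopCat.Sheaf.forget CommRingCat _).map φ))
  exact inferInstanceAs (IsIso (f.c.app (Opposite.op U)))

end Misc3Stein
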