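import Mathlib
import Groth.Agent.Misc3Stein.Factor
import Groth.Agent.VarietyBC.BC

/-!
# Points of a finite scheme over a field after base change to a separably closed field
-/

universe u

open CategoryTheory CategoryTheory.Limits AlgebraicGeometry

set_option backward.isDefEq.respectTransparency false

namespace Misc3Stein

theorem totallyDisconnectedSpace_of_integral {K : Type u} [Field K] {P : Scheme.{u}}
    (h : P ⟶ Spec (CommRingCat.of K)) [IsIntegralHom h] : TotallyDisconnectedSpace P := by
  haveI : IsAffine P := isAffine_of_isAffineHom h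
  let φ : K →+* Γ(P, ⊤) := h.appTop.hom.comp (Scheme.ΓSpecIso (CommRingCat.of K)).inv.hom
  have hφ : φ.IsIntegral := by
    refine RingHom.IsIntegral.trans _ _ (RingHom.isIntegral_of_surjective _ ?_) ?_
    · exact (Scheme.ΓSpecIso (CommRingCat.of K)).commRingCatIsoToRingEquiv.symm.surjective
    · exact (HasAffineProperty.iff_of_isAffine (P := @IsIntegralHom)).1 ‹IsIntegralHom h› |>.2
  algebraize [φ]
  have hmax : ∀ p : Ideal Γ(P, ⊤), p.IsPrime → p.IsMaximal := fun p hp =>
    haveI := hp
    Ideal.isMaximal_of_isIntegral_of_isMaximal_comap (R := K) p (by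
      rw [(Ideal.eq_bot_or_top (p.comap (algebraMap K Γ(P, ⊤)))).resolve_right (Ideal.IsPrime.comap (algebraMap K Γ(P, ⊤))).ne_top]
      exact Ideal.bot_isMaximal)
  haveI : TotallyDisconnectedSpace (PrimeSpectrum Γ(P, ⊤)) :=
    ((Groth.Agent.S9633.result (R := Γ(P, ⊤))).out 5 2 rfl rfl).1 hmax
  haveI : TotallyDisconnectedSpace ↥(Spec Γ(P, ⊤)) := ‹TotallyDisconnectedSpace (PrimeSpectrum Γ(P, ⊤))›
  exact P.isoSpec.hom.homeomorph.symm.totallyDisconnectedSpace

/-- Over a separably closed field the points of an integral scheme are its points in an algebraic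
closure. -/
noncomputable def pointsEquiv {Ω : Type u} [Field Ω] [IsSepClosed Ω] {W : Scheme.{u}}
    (p : W ⟶ Spec (CommRingCat.of Ω)) [IsIntegralHom p] :
    W ≃ {g : Spec (CommRingCat.of (AlgebraicClosure Ω)) ⟶ W //
      g ≫ p = Spec.map (CommRingCat.ofHom (algebraMap Ω (AlgebraicClosure Ω)))} := by
  refine (Equiv.ofBijective (fun g : {g : Spec (CommRingCat.of (AlgebraicClosure Ω)) ⟶ W //
      g ≫ p = Spec.map (CommRingCat.ofHom (algebraMap Ω (AlgebraicClosure Ω)))} =>
      (Scheme.SpecToEquivOfField _ W g.1).1) ?_).symm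
  letI : W.Over (Spec (CommRingCat.of Ω)) := ⟨p⟩
  have key : ∀ (w : W) (a : W.residueField w ⟶ CommRingCat.of (AlgebraicClosure Ω)),
      ((Spec.map a ≫ W.fromSpecResidueField w) ≫ p =
          Spec.map (CommRingCat.ofHom (algebraMap Ω (AlgebraicClosure Ω)))) ↔
        a.hom.comp (Curv2.resMap Ω W w) = algebraMap Ω (AlgebraicClosure Ω) := by
    intro w a
    have h : W.fromSpecResidueField w ≫ p = Spec.map (CommRingCat.ofHom (Curv2.resMap Ω W w)) :=
      Groth.VarietyBC.fromSpecResidueField_str (k := Ω) w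
    rw [Category.assoc, h, ← Spec.map_comp]
    constructor
    · intro h1
      exact congrArg CommRingCat.Hom.hom (Spec.map_injective h1)
    · intro h1
      congr 1
      exact CommRingCat.hom_ext h1
  have halg : ∀ w : W, letI := (Curv2.resMap Ω W w).toAlgebra; Algebra.IsAlgebraic Ω (W.residueField w) := by
    intro w
    have h : W.fromSpecResidueField w ≫ p = Spec.map (CommRingCat.ofHom (Curv2.resMap Ω W w)) :=
      Groth.VarietyBC.fromSpecResidueField_str (k := Ω) w
    letI := (Curv2.resMap Ω W w).toAlgebra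
    obtain ⟨_, ⟨U, hU, rfl⟩, hwU, -⟩ := W.isBasis_affineOpens.exists_subset_of_mem_open (Set.mem_univ w) isOpen_univ
    haveI : IsAffine W := isAffine_of_isAffineHom p
    have hc : IsClosed ({w} : Set W) := by
      haveI := totallyDisconnectedSpace_of_integral p
      exact isClosed_singleton
    haveI : IsClosedImmersion (W.fromSpecResidueField w) := .of_isPreimmersion _ (by
      rw [Scheme.range_fromSpecResidueField]; exact hc)
    haveI : IsIntegralHom (Spec.map (CommRingCat.ofHom (Curv2.resMap Ω W w))) := by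
      rw [← h]; infer_instance
    haveI : Algebra.IsIntegral Ω (W.residueField w) := ⟨(IsIntegralHom.SpecMap_iff.1 (‹_› : IsIntegralHom (Spec.map (CommRingCat.ofHom (Curv2.resMap Ω W w)))) :)⟩
    infer_instance
  constructor
  · intro g g' hgg
    obtain ⟨g, hg⟩ := g
    obtain ⟨g', hg'⟩ := g'
    obtain ⟨⟨w, a⟩, rfl⟩ := (Scheme.SpecToEquivOfField _ W).symm.surjective g
    obtain ⟨⟨w', b⟩, rfl⟩ := (Scheme.SpecToEquivOfField _ W).symm.surjective g'
    simp only [Equiv.apply_symm_apply] at hgg
    subst hgg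
    letI := (Curv2.resMap Ω W w).toAlgebra
    haveI := halg w
    suffices a = b by subst this; rfl
    refine CommRingCat.hom_ext ?_
    exact IsPurelyInseparable.injective_comp_algebraMap Ω (W.residueField w) (AlgebraicClosure Ω)
      (((key w a).1 hg).trans ((key w b).1 hg').symm)
  · intro w
    letI := (Curv2.resMap Ω W w).toAlgebra
    haveI := halg w
    let a : W.residueField w →ₐ[Ω] AlgebraicClosure Ω := IsAlgClosed.lift
    refine ⟨⟨(Scheme.SpecToEquivOfField _ W).symm ⟨w, CommRingCat.ofHom a.toRingHom⟩,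
      (key w (CommRingCat.ofHom a.toRingHom)).2 (RingHom.ext fun x => a.commutes x)⟩, ?_⟩
    simp

end Misc3Stein
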