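import Mathlib
import Groth.Agent.EGA43Topo.UnibranchLift
import Groth.Agent.VarietyBC.BranchPoints

/-!
# Field valued points of the normalization over a geometrically unibranch point
-/

universe u

set_option backward.isDefEq.respectTransparency.types false

namespace Misc3Stein

/-- Two points of the normalization of a domain agreeing on it agree, if the local ring below them is
geometrically unibranch. -/
theorem eq_on_normalization {A K L : Type u} [CommRing A] [IsDomain A] [Field K] [Algebra A K]
    [CommRing L] [IsDomain L] [IsLocalRing L] [Algebra A L] [Algebra L K] [IsScalarTower A L K]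
    [IsFractionRing L K] (p : Ideal A) [p.IsPrime] [IsLocalization.AtPrime L p]
    (hA : CAlg2.IsGeomUnibranch L) {Ω : Type u} [Field Ω] (ψ₁ ψ₂ : integralClosure A K →+* Ω)
    (hker : RingHom.ker (ψ₁.comp (algebraMap A (integralClosure A K))) = p)
    (hag : ψ₁.comp (algebraMap A (integralClosure A K)) = ψ₂.comp (algebraMap A (integralClosure A K))) :
    ψ₁ = ψ₂ := by
  classical
  haveI : IsLocalization (Algebra.algebraMapSubmonoid K p.primeCompl) K := by
    refine IsLocalization.self ?_
    rintro _ ⟨s, hs, rfl⟩
    have h1 : IsUnit (algebraMap A L s) := IsLocalization.map_units L (⟨s, hs⟩ : p.primeCompl)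
    rw [IsUnit.mem_submonoid_iff, IsScalarTower.algebraMap_apply A L K]
    exact h1.map _
  let incl : integralClosure A K →+* integralClosure L K :=
    { toFun := fun x => ⟨(x : K), IsIntegral.tower_top x.2⟩
      map_one' := rfl
      map_mul' := fun _ _ => rfl
      map_zero' := rfl
      map_add' := fun _ _ => rfl }
  letI := incl.toAlgebra
  haveI : IsScalarTower (integralClosure A K) (integralClosure L K) K := IsScalarTower.of_algebraMap_eq fun _ => rfl
  haveI : IsScalarTower A (integralClosure A K) (integralClosure L K) := IsScalarTower.of_algebraMap_eq fun a => by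
    refine FaithfulSMul.algebraMap_injective (integralClosure L K) K ?_
    rw [← IsScalarTower.algebraMap_apply A (integralClosure L K) K]
    exact IsScalarTower.algebraMap_apply A (integralClosure A K) K a
  haveI hloc : IsLocalization (Algebra.algebraMapSubmonoid (integralClosure A K) p.primeCompl) (integralClosure L K) :=
    IsLocalization.integralClosure (S := K) (Rf := L) (Sf := K) p.primeCompl
  have hunit : ∀ (ψ : integralClosure A K →+* Ω), RingHom.ker (ψ.comp (algebraMap A _)) = p →
      ∀ y : Algebra.algebraMapSubmonoid (integralClosure A K) p.primeCompl, IsUnit (ψ y) := by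
    rintro ψ hψ ⟨_, s, hs, rfl⟩
    rw [isUnit_iff_ne_zero]
    intro h0
    exact hs (hψ ▸ h0 : s ∈ p)
  have hker₂ : RingHom.ker (ψ₂.comp (algebraMap A (integralClosure A K))) = p := hag ▸ hker
  let χ₁ : integralClosure L K →+* Ω := IsLocalization.lift (hunit ψ₁ hker)
  let χ₂ : integralClosure L K →+* Ω := IsLocalization.lift (hunit ψ₂ hker₂)
  have hu₀ : ∀ y : p.primeCompl, IsUnit (ψ₁.comp (algebraMap A (integralClosure A K)) y) := fun y => by
    rw [isUnit_iff_ne_zero]
    intro h0
    exact y.2 (hker ▸ h0 : (y : A) ∈ p)
  let e₀ : L →+* Ω := IsLocalization.lift hu₀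
  have hχ₁ : χ₁.comp (algebraMap L (integralClosure L K)) = e₀ := by
    refine IsLocalization.ringHom_ext p.primeCompl (RingHom.ext fun a => ?_)
    simp only [RingHom.comp_apply, e₀, IsLocalization.lift_eq]
    rw [← IsScalarTower.algebraMap_apply A L (integralClosure L K),
      IsScalarTower.algebraMap_apply A (integralClosure A K) (integralClosure L K), IsLocalization.lift_eq]
  have hχ₂ : χ₂.comp (algebraMap L (integralClosure L K)) = e₀ := by
    refine IsLocalization.ringHom_ext p.primeCompl (RingHom.ext fun a => ?_)
    simp only [RingHom.comp_apply, e₀, IsLocalization.lift_eq]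
    rw [← IsScalarTower.algebraMap_apply A L (integralClosure L K),
      IsScalarTower.algebraMap_apply A (integralClosure A K) (integralClosure L K), IsLocalization.lift_eq]
    exact (RingHom.congr_fun hag a).symm
  have hloc₀ : RingHom.ker e₀ = IsLocalRing.maximalIdeal L := by
    ext l
    obtain ⟨a, s, rfl⟩ := IsLocalization.exists_mk'_eq p.primeCompl l
    rw [RingHom.mem_ker, IsLocalization.lift_mk'_spec, mul_zero, IsLocalization.AtPrime.mk'_mem_maximal_iff L p]
    conv_rhs => rw [← hker]
    rfl
  obtain ⟨e, he⟩ := Groth.VarietyBC.BranchPoints.exists_normRedEquiv L K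
  have heq : χ₁.comp e.toRingHom = χ₂.comp e.toRingHom :=
    Groth.EGA43Topo.eq_of_isGeomUnibranch L hA e₀ hloc₀ _ _
      (fun a => (congrArg χ₁ (he a)).trans (RingHom.congr_fun hχ₁ a))
      (fun a => (congrArg χ₂ (he a)).trans (RingHom.congr_fun hχ₂ a))
  refine RingHom.ext fun x => ?_
  have h := RingHom.congr_fun heq (e.symm (algebraMap (integralClosure A K) (integralClosure L K) x))
  simp only [RingHom.comp_apply, RingEquiv.toRingHom_eq_coe, RingHom.coe_coe, RingEquiv.apply_symm_apply] at h
  simpa [χ₁, χ₂, IsLocalization.lift_eq] using h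

end Misc3Stein
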